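import Groth.Agent.S4630
import Groth.Agent.S4631
import Groth.Agent.FBaseLib.Components

/-!
# Pointwise integrality and components
-/

set_option autoImplicit false
set_option linter.style.haveILetI false
set_option backward.isDefEq.respectTransparency false
set_option backward.isDefEq.respectTransparency.types false

universe u

open CategoryTheory Limits AlgebraicGeometry

namespace Groth.Agent.PtIntegral5

variable {Z : Scheme.{u}}

theorem eq_of_isDomain_stalk (z : Z) [IsDomain (Z.presheaf.stalk z)] {A B : Set Z}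
    (hA : A ∈ irreducibleComponents (Z : Type u)) (hB : B ∈ irreducibleComponents (Z : Type u))
    (hzA : z ∈ A) (hzB : z ∈ B) : A = B := by
  obtain ⟨a, rfl, ha⟩ := FDescent.exists_maximal_of_mem_irreducibleComponents hA
  obtain ⟨b, rfl, hb⟩ := FDescent.exists_maximal_of_mem_irreducibleComponents hB
  let o : PrimeSpectrum (Z.presheaf.stalk z) := ⟨⊥, Ideal.isPrime_bot⟩
  have key : ∀ w, w ⤳ z → Z.fromSpecStalk z o ⤳ w := fun w hw => by
    obtain ⟨p, rfl⟩ : w ∈ Set.range (Z.fromSpecStalk z) := by rw [Scheme.range_fromSpecStalk]; exact hw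
    let p' : PrimeSpectrum (Z.presheaf.stalk z) := p
    exact ((PrimeSpectrum.le_iff_specializes o p').1 bot_le).map (Z.fromSpecStalk z).continuous
  rw [← ha _ (key a (specializes_iff_mem_closure.2 hzA)), hb _ (key b (specializes_iff_mem_closure.2 hzB))]

theorem isDomain_stalk_of_unique_component (z : Z) [IsReduced Z]
    (h : ∀ A ∈ irreducibleComponents (Z : Type u), ∀ B ∈ irreducibleComponents (Z : Type u),
      z ∈ A → z ∈ B → A = B) : IsDomain (Z.presheaf.stalk z) := by
  have hto : ∀ p : PrimeSpectrum (Z.presheaf.stalk z), Z.fromSpecStalk z p ⤳ z := fun p => by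
    have : Z.fromSpecStalk z p ∈ Set.range (Z.fromSpecStalk z) := ⟨p, rfl⟩
    rwa [Scheme.range_fromSpecStalk] at this
  have hmin : ∀ (p : Ideal (Z.presheaf.stalk z)) (hp : p ∈ minimalPrimes (Z.presheaf.stalk z)),
      closure {Z.fromSpecStalk z (⟨p, hp.1.1⟩ : PrimeSpectrum (Z.presheaf.stalk z))} ∈
        irreducibleComponents (Z : Type u) := by
    intro p hp
    refine FDescent.closure_mem_irreducibleComponents fun w hw => ?_
    obtain ⟨q, rfl⟩ : w ∈ Set.range (Z.fromSpecStalk z) := by
      rw [Scheme.range_fromSpecStalk]; exact hw.trans (hto _)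
    let q' : PrimeSpectrum (Z.presheaf.stalk z) := q
    have hle : q'.asIdeal ≤ p := (PrimeSpectrum.le_iff_specializes q' ⟨p, hp.1.1⟩).2
      ((Z.fromSpecStalk z).isEmbedding.isInducing.specializes_iff.1 hw)
    exact congrArg (Z.fromSpecStalk z) (show q' = ⟨p, hp.1.1⟩ from
      PrimeSpectrum.ext (le_antisymm hle (hp.2 ⟨q'.2, bot_le⟩ hle)))
  obtain ⟨p, hp, -⟩ := Ideal.exists_minimalPrimes_le
    (bot_le : (⊥ : Ideal (Z.presheaf.stalk z)) ≤ IsLocalRing.maximalIdeal _)
  have hone : ∀ q ∈ minimalPrimes (Z.presheaf.stalk z), p = q := fun q hq => by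
    have e := h _ (hmin p hp) _ (hmin q hq) (specializes_iff_mem_closure.1 (hto _))
      (specializes_iff_mem_closure.1 (hto _))
    exact congrArg PrimeSpectrum.asIdeal ((Z.fromSpecStalk z).isEmbedding.injective
      (IsGenericPoint.eq isGenericPoint_closure (e.symm ▸ isGenericPoint_closure)))
  have hbot : p = ⊥ := by
    refine eq_bot_iff.2 fun a ha => ?_
    have : a ∈ sInf (minimalPrimes (Z.presheaf.stalk z)) := by
      rw [Submodule.mem_sInf]
      exact fun q hq => hone q hq ▸ ha
    rw [show sInf (minimalPrimes (Z.presheaf.stalk z)) = (⊥ : Ideal (Z.presheaf.stalk z)).radical from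
      Ideal.sInf_minimalPrimes] at this
    exact Ideal.mem_bot.2 (IsNilpotent.eq_zero (mem_nilradical.1 this))
  haveI : (⊥ : Ideal (Z.presheaf.stalk z)).IsPrime := hbot ▸ hp.1.1
  exact IsDomain.of_bot_isPrime _

theorem component_subset_connectedComponent {A : Set Z} (hA : A ∈ irreducibleComponents (Z : Type u)) {z : Z}
    (hz : z ∈ A) : A ⊆ _root_.connectedComponent z :=
  hA.1.2.isPreconnected.subset_connectedComponent hz

/-- For finitely many components: all local rings are domains iff reduced with as many connected as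
irreducible components. -/
theorem forall_isDomain_stalk_iff (Z : Scheme.{u}) (hfin : (irreducibleComponents (Z : Type u)).Finite) :
    (∀ z : Z, IsDomain (Z.presheaf.stalk z)) ↔ IsReduced Z ∧
      Nat.card ↥(irreducibleComponents ↥Z) = Nat.card (_root_.ConnectedComponents ↥Z) := by
  haveI : Finite ↥(irreducibleComponents ↥Z) := hfin.to_subtype
  let r : ↥(irreducibleComponents ↥Z) → _root_.ConnectedComponents ↥Z :=
    fun A => _root_.ConnectedComponents.mk A.2.1.nonempty.some
  have hr : ∀ (A : ↥(irreducibleComponents ↥Z)) (z : Z), z ∈ A.1 → r A = _root_.ConnectedComponents.mk z :=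
    fun A z hz => _root_.ConnectedComponents.coe_eq_coe'.2
      (component_subset_connectedComponent A.2 hz A.2.1.nonempty.some_mem)
  have hsurj : Function.Surjective r := fun c => by
    obtain ⟨z, rfl⟩ := _root_.ConnectedComponents.surjective_coe c
    exact ⟨⟨_, irreducibleComponent_mem_irreducibleComponents z⟩, hr _ z mem_irreducibleComponent⟩
  constructor
  · intro h
    haveI : ∀ z : Z, _root_.IsReduced (Z.presheaf.stalk z) := fun z => by haveI := h z; infer_instance
    refine ⟨isReduced_of_isReduced_stalk Z, ?_⟩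
    refine Nat.card_eq_of_bijective r ⟨fun A B hAB => Subtype.ext ?_, hsurj⟩
    obtain ⟨a, ha⟩ := A.2.1.nonempty
    obtain ⟨b, hb⟩ := B.2.1.nonempty
    have hcc : _root_.ConnectedComponents.mk a = _root_.ConnectedComponents.mk b :=
      (hr A a ha).symm.trans (hAB.trans (hr B b hb))
    have hclopen : IsClopen A.1 := by
      refine ⟨isClosed_of_mem_irreducibleComponents _ A.2, ?_⟩
      have hc : A.1ᶜ = ⋃₀ (irreducibleComponents ↥Z \ {A.1}) := by
        ext z
        refine ⟨fun hz => ⟨_, ⟨irreducibleComponent_mem_irreducibleComponents z, fun he => ?_⟩,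
          mem_irreducibleComponent⟩, ?_⟩
        · exact hz ((Set.mem_singleton_iff.1 he) ▸ mem_irreducibleComponent)
        · rintro ⟨C, ⟨hC, hCA⟩, hzC⟩ hzA
          haveI := h z
          exact hCA (Set.mem_singleton_iff.2 (eq_of_isDomain_stalk z hC A.2 hzC hzA))
      refine isClosed_compl_iff.1 ?_
      rw [hc, Set.sUnion_eq_biUnion]
      exact (hfin.subset Set.sdiff_subset).isClosed_biUnion fun C hC => isClosed_of_mem_irreducibleComponents _ hC.1
    have hbA : b ∈ A.1 :=
      hclopen.connectedComponent_subset ha (_root_.ConnectedComponents.coe_eq_coe'.1 hcc.symm)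
    haveI := h b
    exact eq_of_isDomain_stalk b A.2 B.2 hbA hb
  · rintro ⟨hred, hcard⟩ z
    haveI : Finite (_root_.ConnectedComponents ↥Z) := Finite.of_surjective r hsurj
    have hbij : Function.Bijective r := Nat.bijective_iff_surjective_and_card r |>.2 ⟨hsurj, hcard⟩
    refine isDomain_stalk_of_unique_component z fun A hA B hB hzA hzB => ?_
    exact congrArg Subtype.val (hbij.1 ((hr ⟨A, hA⟩ z hzA).trans (hr ⟨B, hB⟩ z hzB).symm))

variable {k : Type u} [Field k] {X : Scheme.{u}} (f : X ⟶ Spec (CommRingCat.of k))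

theorem forall_ptIntegral_iff (Ω : Type u) [Field Ω] [Algebra k Ω] [IsAlgClosed Ω] :
    (∀ x : X, FBase.IsGeomPtIntegralAt f x) ↔ ∀ w : ↥(FBase.bc f Ω), IsDomain ((FBase.bc f Ω).presheaf.stalk w) := by
  constructor
  · intro h w
    exact (S4631.result (FBase.bcStr f Ω) w).1 ((S4630.result f w).1 (h _))
  · intro h x
    obtain ⟨w, rfl⟩ := (FBaseLib.surjective_bcπ f Ω).surj x
    exact (S4630.result f w).2 ((S4631.result (FBase.bcStr f Ω) w).2 (h w))

theorem geometricallyReduced_of_ptIntegral (h : ∀ x : X, FBase.IsGeomPtIntegralAt f x) : GeometricallyReduced f := by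
  refine ⟨fun K _ y W fst snd hW => ?_⟩
  obtain ⟨φ, rfl⟩ := Spec.map_surjective y
  letI : Algebra k K := φ.hom.toAlgebra
  let e : W ≅ FBase.bc f K := hW.isoPullback
  haveI : ∀ w : ↥(FBase.bc f K), _root_.IsReduced ((FBase.bc f K).presheaf.stalk w) := fun w => by
    haveI := h _ K w rfl
    infer_instance
  haveI : IsReduced (FBase.bc f K) := isReduced_of_isReduced_stalk _
  exact isReduced_of_isOpenImmersion e.hom

/-- EGA IV 4.6.10-type criterion. -/
theorem forall_isGeomPtIntegralAt_iff (Ω : Type u) [Field Ω] [Algebra k Ω] [IsAlgClosed Ω]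
    [LocallyOfFiniteType f] [QuasiCompact f] :
    (∀ x : X, FBase.IsGeomPtIntegralAt f x) ↔ (GeometricallyReduced f ∧
      Nat.card ↥(irreducibleComponents ↥(FBase.bc f Ω)) = Nat.card (_root_.ConnectedComponents ↥(FBase.bc f Ω))) := by
  let t : FBase.bc f Ω ⟶ Spec (CommRingCat.of Ω) := FBase.bcStr f Ω
  haveI : LocallyOfFiniteType t := inferInstanceAs (LocallyOfFiniteType (pullback.snd f _))
  haveI : QuasiCompact t := inferInstanceAs (QuasiCompact (pullback.snd f _))
  haveI : CompactSpace ↥(FBase.bc f Ω) := QuasiCompact.compactSpace_of_compactSpace t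
  haveI : IsLocallyNoetherian (FBase.bc f Ω) := LocallyOfFiniteType.isLocallyNoetherian t
  haveI : AlgebraicGeometry.IsNoetherian (FBase.bc f Ω) := {}
  have hfin := TopologicalSpace.NoetherianSpace.finite_irreducibleComponents (α := ↥(FBase.bc f Ω))
  rw [forall_ptIntegral_iff f Ω, forall_isDomain_stalk_iff _ hfin]
  refine ⟨fun h => ⟨?_, h.2⟩, fun h => ⟨?_, h.2⟩⟩
  · exact geometricallyReduced_of_ptIntegral f
      ((forall_ptIntegral_iff f Ω).2 ((forall_isDomain_stalk_iff _ hfin).2 h))
  · exact h.1.geometrically_isReduced _ (FBase.bcπ f Ω) (FBase.bcStr f Ω)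
      (IsPullback.of_hasPullback f (Spec.map (CommRingCat.ofHom (algebraMap k Ω))))

end Groth.Agent.PtIntegral5
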